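import Groth.Prelude.Def_W4stkadequatePure
import Groth.Prelude.Def_CAlgX
import Mathlib.Algebra.Module.CharacterModule
import Mathlib.LinearAlgebra.DirectSum.Finsupp
import Mathlib.LinearAlgebra.TensorProduct.Pi
import Mathlib.Algebra.Module.FinitePresentation
import Mathlib.LinearAlgebra.DFinsupp
import Mathlib.LinearAlgebra.TensorProduct.RightExactness
import Mathlib.RingTheory.Finiteness.Basic
import Mathlib.RingTheory.Flat.Basic

/-!
Pure exact sequences of modules, pure projective and pure injective modules.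
-/

set_option autoImplicit false
set_option linter.style.haveILetI false
set_option backward.isDefEq.respectTransparency false
set_option backward.isDefEq.respectTransparency.types false

universe u

open TensorProduct

noncomputable section

namespace Groth.L02.PureExt

variable (R : Type u) [CommRing R]

/-- Every map out of a finitely presented module lifts. -/
def LiftsFP {L N : Type u} [AddCommGroup L] [Module R L] [AddCommGroup N] [Module R N] (g : L →ₗ[R] N) : Prop :=
  ∀ (n : ℕ) (W : Submodule R (Fin n → R)), W.FG → ∀ φ : ((Fin n → R) ⧸ W) →ₗ[R] N,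
    ∃ ψ : ((Fin n → R) ⧸ W) →ₗ[R] L, g ∘ₗ ψ = φ

/-- Pure projective. -/
def PureProj (P : Type u) [AddCommGroup P] [Module R P] : Prop :=
  ∀ ⦃L N : Type u⦄ [AddCommGroup L] [Module R L] [AddCommGroup N] [Module R N] (g : L →ₗ[R] N),
    Function.Surjective g → CAlgX.UniversallyInjective R (LinearMap.ker g).subtype →
    ∀ φ : P →ₗ[R] N, ∃ ψ : P →ₗ[R] L, g ∘ₗ ψ = φ

/-- Pure injective. -/
def PureInj (I : Type u) [AddCommGroup I] [Module R I] : Prop :=
  ∀ ⦃K L : Type u⦄ [AddCommGroup K] [Module R K] [AddCommGroup L] [Module R L] (f : K →ₗ[R] L),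
    CAlgX.UniversallyInjective R f → ∀ φ : K →ₗ[R] I, ∃ ψ : L →ₗ[R] I, ψ ∘ₗ f = φ

variable {R}
variable {A B C K L M N : Type u} [AddCommGroup A] [Module R A] [AddCommGroup B] [Module R B]
  [AddCommGroup C] [Module R C] [AddCommGroup K] [Module R K] [AddCommGroup L] [Module R L]
  [AddCommGroup M] [Module R M] [AddCommGroup N] [Module R N]

theorem liftsFP_of_universallyInjective (g : L →ₗ[R] N) (hg : Function.Surjective g)
    (h : CAlgX.UniversallyInjective R (LinearMap.ker g).subtype) : LiftsFP R g := by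
  classical
  intro n W hW φ
  obtain ⟨m, a, ha⟩ := Submodule.fg_iff_exists_fin_generating_family.1 hW
  choose l₀ hl₀ using fun i => hg (φ (W.mkQ (Pi.single i 1)))
  let ψ₀ : (Fin n → R) →ₗ[R] L := Fintype.linearCombination R l₀
  have hψ₀ : g ∘ₗ ψ₀ = φ ∘ₗ W.mkQ := by
    refine (Pi.basisFun R (Fin n)).ext fun i => ?_
    simp [ψ₀, Fintype.linearCombination_apply_single, hl₀]
  have hκ : ∀ j, ψ₀ (a j) ∈ LinearMap.ker g := fun j => by
    rw [LinearMap.mem_ker, ← LinearMap.comp_apply, hψ₀, LinearMap.comp_apply]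
    have : W.mkQ (a j) = 0 := (Submodule.Quotient.mk_eq_zero W).2 (ha ▸ Submodule.subset_span ⟨j, rfl⟩)
    rw [this, map_zero]
  let κ : Fin m → LinearMap.ker g := fun j => ⟨ψ₀ (a j), hκ j⟩
  let t : (Fin n → R) →ₗ[R] (Fin m → R) := LinearMap.pi fun j => Fintype.linearCombination R (a j)
  have ht : ∀ v j, t v j = ∑ i, v i * a j i := fun v j => by
    simp [t, Fintype.linearCombination_apply]
  let q : (Fin m → R) →ₗ[R] (Fin m → R) ⧸ LinearMap.range t := (LinearMap.range t).mkQ
  let z : LinearMap.ker g ⊗[R] (Fin m → R) := ∑ j, κ j ⊗ₜ Pi.single j 1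
  have h1 : (LinearMap.ker g).subtype.rTensor _ (q.lTensor _ z) = 0 := by
    have hsum : ∀ j, (κ j : L) = ∑ i, a j i • l₀ i := fun j => by
      simp [κ, ψ₀, Fintype.linearCombination_apply]
    simp only [z, map_sum, LinearMap.lTensor_tmul, LinearMap.rTensor_tmul, Submodule.subtype_apply, hsum,
      TensorProduct.sum_tmul, TensorProduct.smul_tmul]
    rw [Finset.sum_comm]
    refine Finset.sum_eq_zero fun i _ => ?_
    rw [← TensorProduct.tmul_sum]
    have : ∑ j, a j i • q (Pi.single j 1) = 0 := by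
      simp only [← map_smul, ← map_sum]
      refine (Submodule.Quotient.mk_eq_zero _).2 ⟨Pi.single i 1, ?_⟩
      ext j
      simp [ht, Pi.single_apply]
    simp [this]
  have h2 : q.lTensor (LinearMap.ker g) z = 0 := h _ (h1.trans (map_zero _).symm)
  obtain ⟨y, hy⟩ := ((lTensor_exact (LinearMap.ker g) (LinearMap.exact_map_mkQ_range t)
    (LinearMap.range t).mkQ_surjective) z).1 h2
  let k₀ : Fin n → LinearMap.ker g := TensorProduct.piScalarRight R R (LinearMap.ker g) (Fin n) y
  have hk : ∀ j, κ j = ∑ i, a j i • k₀ i := fun j => by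
    have h3 := congrArg (fun w => TensorProduct.piScalarRight R R (LinearMap.ker g) (Fin m) w j) hy
    have hnat : ∀ y : LinearMap.ker g ⊗[R] (Fin n → R),
        TensorProduct.piScalarRight R R (LinearMap.ker g) (Fin m) (t.lTensor _ y) j =
          ∑ i, a j i • TensorProduct.piScalarRight R R (LinearMap.ker g) (Fin n) y i := by
      intro y
      induction y using TensorProduct.induction_on with
      | zero => simp
      | tmul k v => simp [ht, Finset.sum_smul, smul_smul, mul_comm]
      | add y y' hy hy' => simp only [map_add, Pi.add_apply, hy, hy', smul_add, Finset.sum_add_distrib]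
    simp only [hnat] at h3
    rw [h3]
    simp [z, Pi.single_apply]
  let ψ₁ : (Fin n → R) →ₗ[R] L := ψ₀ - (LinearMap.ker g).subtype ∘ₗ Fintype.linearCombination R k₀
  have hψ₁ : W ≤ LinearMap.ker ψ₁ := by
    rw [← ha, Submodule.span_le]
    rintro _ ⟨j, rfl⟩
    simp only [SetLike.mem_coe, LinearMap.mem_ker, ψ₁, LinearMap.sub_apply, LinearMap.comp_apply,
      Submodule.subtype_apply, Fintype.linearCombination_apply, sub_eq_zero]
    rw [← hk]
  refine ⟨W.liftQ ψ₁ hψ₁, Submodule.linearMap_qext _ ?_⟩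
  rw [LinearMap.comp_assoc, Submodule.liftQ_mkQ]
  refine LinearMap.ext fun v => ?_
  simp only [ψ₁, LinearMap.comp_apply, LinearMap.sub_apply, map_sub, Submodule.subtype_apply]
  rw [← LinearMap.comp_apply g ψ₀, hψ₀, LinearMap.mem_ker.1 (Fintype.linearCombination R k₀ v).2, sub_zero]
  rfl

theorem universallyInjective_of_liftsFP (g : L →ₗ[R] N) (h : LiftsFP R g) :
    CAlgX.UniversallyInjective R (LinearMap.ker g).subtype := by
  classical
  intro Q _ _
  rw [injective_iff_map_eq_zero]
  intro x hx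
  let p : (Q →₀ R) →ₗ[R] Q := Finsupp.linearCombination R id
  have hp : Function.Surjective p := fun q => ⟨Finsupp.single q 1, by simp [p]⟩
  obtain ⟨z, rfl⟩ := LinearMap.lTensor_surjective (LinearMap.ker g) hp x
  let W := LinearMap.ker p
  have hz : p.lTensor L ((LinearMap.ker g).subtype.rTensor _ z) = 0 := by
    rw [← hx, ← LinearMap.comp_apply, LinearMap.lTensor_comp_rTensor, ← LinearMap.comp_apply,
      LinearMap.rTensor_comp_lTensor]
  obtain ⟨y, hy⟩ := ((lTensor_exact L (M := ↥W) (f := W.subtype) (g := p) (LinearMap.exact_subtype_ker_map p) hp) _).1 hz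
  obtain ⟨s, rfl⟩ := TensorProduct.exists_finset (R := R) y
  let e := TensorProduct.finsuppScalarRight R R L Q
  let v : Q → (↥s → R) := fun i j => (j.1.2 : Q →₀ R) i
  let supp : Finset Q := s.biUnion fun j => (j.2 : Q →₀ R).support
  have hfin : (Set.range v).Finite := ((supp.finite_toSet.image v).insert 0).subset fun w ⟨i, hi⟩ => by
    by_cases hmem : i ∈ supp
    · exact Or.inr ⟨i, hmem, hi⟩
    · refine Or.inl (hi ▸ funext fun j => ?_)
      by_contra hj
      exact hmem (Finset.mem_biUnion.2 ⟨j.1, j.2, Finsupp.mem_support_iff.2 hj⟩)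
  let eI := s.equivFin
  let v' : Q → (Fin s.card → R) := fun i j => v i (eI.symm j)
  let W' : Submodule R (Fin s.card → R) := Submodule.span R (Set.range v')
  have hW' : W'.FG := by
    refine Submodule.fg_span ?_
    exact (hfin.image (fun w j => w (eI.symm j))).subset (by rintro _ ⟨i, rfl⟩; exact ⟨v i, ⟨i, rfl⟩, rfl⟩)
  have hk : ∀ i, ∑ j : ↥s, v i j • j.1.1 ∈ LinearMap.ker g := fun i => by
    have h4 := congrArg (fun w => e w i) hy
    simp only [map_sum, LinearMap.lTensor_tmul, Finsupp.coe_finsetSum, Finset.sum_apply, e,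
      TensorProduct.finsuppScalarRight_apply_tmul_apply, Submodule.subtype_apply] at h4
    rw [Finset.sum_coe_sort s (fun j => (j.2 : Q →₀ R) i • j.1), h4, LinearMap.mem_ker]
    generalize z = z'
    induction z' using TensorProduct.induction_on with
    | zero => simp
    | tmul k f => simp
    | add a b ha hb => simp [map_add, ha, hb]
  let φ : ((Fin s.card → R) ⧸ W') →ₗ[R] N := W'.liftQ (Fintype.linearCombination R fun j => g (eI.symm j).1.1) (by
    rw [Submodule.span_le]
    rintro _ ⟨i, rfl⟩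
    simp only [SetLike.mem_coe, LinearMap.mem_ker, Fintype.linearCombination_apply, v']
    rw [Equiv.sum_comp eI.symm (fun j => v i j • g j.1.1)]
    simpa using hk i)
  obtain ⟨ψ, hψ⟩ := h _ W' hW' φ
  let l' : ↥s → L := fun j => ψ (W'.mkQ (Pi.single (eI j) 1))
  have hgl : ∀ j, g (l' j) = g j.1.1 := fun j => by
    rw [← LinearMap.comp_apply g ψ, hψ, Submodule.mkQ_apply, Submodule.liftQ_apply]
    simp [Fintype.linearCombination_apply_single]
  have hl' : ∀ i, ∑ j : ↥s, v i j • l' j = 0 := fun i => by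
    have h0 : ψ (W'.mkQ (v' i)) = 0 := by
      rw [Submodule.mkQ_apply, (Submodule.Quotient.mk_eq_zero W').2 (Submodule.subset_span ⟨i, rfl⟩), map_zero]
    rw [← h0, pi_eq_sum_univ' (v' i), map_sum, map_sum, ← Equiv.sum_comp eI]
    refine Finset.sum_congr rfl fun j _ => ?_
    simp [v', l']
  let k : ↥s → LinearMap.ker g := fun j => ⟨j.1.1 - l' j, by rw [LinearMap.mem_ker, map_sub, hgl, sub_self]⟩
  let z' : LinearMap.ker g ⊗[R] (Q →₀ R) := ∑ j : ↥s, k j ⊗ₜ (j.1.2 : Q →₀ R)
  have hzz : z' = z := by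
    refine Module.Flat.rTensor_preserves_injective_linearMap (M := Q →₀ R) (LinearMap.ker g).subtype
      (Submodule.injective_subtype _) ?_
    rw [← hy]
    refine e.injective (Finsupp.ext fun i => ?_)
    simp only [z', k, e, map_sum, LinearMap.rTensor_tmul, LinearMap.lTensor_tmul, Submodule.subtype_apply,
      Finsupp.coe_finsetSum, Finset.sum_apply, TensorProduct.finsuppScalarRight_apply_tmul_apply, smul_sub]
    rw [Finset.sum_sub_distrib, hl', sub_zero, Finset.sum_coe_sort s (fun j => (j.2 : Q →₀ R) i • j.1)]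
  rw [← hzz]
  simp only [z', map_sum, LinearMap.lTensor_tmul]
  refine Finset.sum_eq_zero fun j _ => ?_
  rw [show p (j.1.2 : Q →₀ R) = 0 from j.1.2.2, TensorProduct.tmul_zero]

theorem pureProj_dfinsupp {ι : Type u} (Q : ι → Type u) [∀ i, AddCommGroup (Q i)] [∀ i, Module R (Q i)]
    [∀ i, Module.FinitePresentation R (Q i)] : PureProj R (Π₀ i, Q i) := by
  classical
  intro L N _ _ _ _ g hg hK φ
  have : ∀ i, ∃ ψ : Q i →ₗ[R] L, g ∘ₗ ψ = φ ∘ₗ DFinsupp.lsingle i := fun i => by
    obtain ⟨n, W, e, hW⟩ := Module.FinitePresentation.exists_fin R (Q i)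
    obtain ⟨ψ, hψ⟩ := liftsFP_of_universallyInjective g hg hK n W hW (φ ∘ₗ DFinsupp.lsingle i ∘ₗ e.symm.toLinearMap)
    exact ⟨ψ ∘ₗ e.toLinearMap, by rw [← LinearMap.comp_assoc, hψ]; ext x; simp⟩
  choose ψ hψ using this
  refine ⟨DFinsupp.lsum ℕ ψ, DFinsupp.lhom_ext fun i x => ?_⟩
  simpa using LinearMap.congr_fun (hψ i) x

theorem pureProj_of_retract {P F : Type u} [AddCommGroup P] [Module R P] [AddCommGroup F] [Module R F]
    (s : P →ₗ[R] F) (r : F →ₗ[R] P) (hrs : r ∘ₗ s = LinearMap.id) (hF : PureProj R F) : PureProj R P := by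
  intro L N _ _ _ _ g hg hK φ
  obtain ⟨ψ, hψ⟩ := hF g hg hK (φ ∘ₗ r)
  exact ⟨ψ ∘ₗ s, by rw [← LinearMap.comp_assoc, hψ, LinearMap.comp_assoc, hrs, LinearMap.comp_id]⟩

variable (R M)

/-- Index type of the canonical cover. -/
def CovIdx : Type u :=
  Σ' (n : ℕ) (W : Submodule R (Fin n → R)) (_ : W.FG), ((Fin n → R) ⧸ W) →ₗ[R] M

/-- Summands of the canonical cover. -/
abbrev CovMod (i : CovIdx R M) : Type u := (Fin i.1 → R) ⧸ i.2.1

variable {R M}

theorem lsum_cover {ι : Type u} [DecidableEq ι] (Q : ι → Type u) [∀ i, AddCommGroup (Q i)] [∀ i, Module R (Q i)]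
    (φ : ∀ i, Q i →ₗ[R] M)
    (hall : ∀ (n : ℕ) (W : Submodule R (Fin n → R)), W.FG → ∀ χ : ((Fin n → R) ⧸ W) →ₗ[R] M,
      ∃ (i : ι) (e : ((Fin n → R) ⧸ W) →ₗ[R] Q i), φ i ∘ₗ e = χ) :
    Function.Surjective (DFinsupp.lsum ℕ φ) ∧
      CAlgX.UniversallyInjective R (LinearMap.ker (DFinsupp.lsum ℕ φ)).subtype := by
  have hlift : LiftsFP R (L := Π₀ i, Q i) (DFinsupp.lsum ℕ φ) := fun n W hW χ => by
    obtain ⟨i, e, he⟩ := hall n W hW χ
    exact ⟨DFinsupp.lsingle i ∘ₗ e, LinearMap.ext fun x => by simp [← he]⟩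
  refine ⟨fun x => ?_, universallyInjective_of_liftsFP _ hlift⟩
  obtain ⟨ψ, hψ⟩ := hlift 1 ⊥ Submodule.fg_bot
    (Submodule.liftQ ⊥ (Fintype.linearCombination R fun _ : Fin 1 => x) bot_le)
  refine ⟨ψ (Submodule.Quotient.mk (Pi.single 0 1)), ?_⟩
  rw [← LinearMap.comp_apply (DFinsupp.lsum ℕ φ) ψ, hψ]
  simp [Fintype.linearCombination_apply_single]

theorem exists_cover (M : Type u) [AddCommGroup M] [Module R M] :
    ∃ (ι : Type u) (Q : ι → Type u) (_ : ∀ i, AddCommGroup (Q i)) (_ : ∀ i, Module R (Q i)),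
      (∀ i, Module.FinitePresentation R (Q i)) ∧
      ∃ g : (Π₀ i, Q i) →ₗ[R] M, Function.Surjective g ∧
        CAlgX.UniversallyInjective R (LinearMap.ker g).subtype := by
  classical
  let φ : ∀ i : CovIdx R M, CovMod R M i →ₗ[R] M := fun i => i.2.2.2
  have h := lsum_cover (CovMod R M) φ fun n W hW χ =>
    ⟨(⟨n, W, hW, χ⟩ : CovIdx R M), LinearMap.id, rfl⟩
  exact ⟨CovIdx R M, CovMod R M, inferInstance, inferInstance, fun i =>
    Module.finitePresentation_of_surjective i.2.1.mkQ i.2.1.mkQ_surjective (by rw [Submodule.ker_mkQ]; exact i.2.2.1),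
    DFinsupp.lsum ℕ φ, h.1, h.2⟩

theorem pureProj_iff (P : Type u) [AddCommGroup P] [Module R P] :
    PureProj R P ↔ ∃ (ι : Type u) (Q : ι → Type u) (_ : ∀ i, AddCommGroup (Q i)) (_ : ∀ i, Module R (Q i)),
      (∀ i, Module.FinitePresentation R (Q i)) ∧
      ∃ (s : P →ₗ[R] (Π₀ i, Q i)) (r : (Π₀ i, Q i) →ₗ[R] P), r ∘ₗ s = LinearMap.id := by
  constructor
  · intro h
    obtain ⟨ι, Q, i1, i2, hQ, g, hg, hK⟩ := exists_cover (R := R) P
    obtain ⟨s, hs⟩ := h g hg hK LinearMap.id
    exact ⟨ι, Q, i1, i2, hQ, s, g, hs⟩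
  · rintro ⟨ι, Q, i1, i2, hQ, s, r, hrs⟩
    exact pureProj_of_retract s r hrs (pureProj_dfinsupp Q)

theorem universallyInjective_charEval : CAlgX.UniversallyInjective R (_root_.PureExt.charEval R M) := by
  intro Q _ _
  rw [rTensor_injective_iff_lcomp_surjective]
  intro g
  let gf : Q →ₗ[R] CharacterModule M := CharacterModule.homEquiv.symm
    (CharacterModule.dual (TensorProduct.comm R Q M).toLinearMap (CharacterModule.homEquiv g))
  exact ⟨CharacterModule.dual gf, by ext m q; rfl⟩

theorem pureInj_characterModule : PureInj R (CharacterModule M) := by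
  intro K L _ _ _ _ f hf φ
  obtain ⟨ψ, hψ⟩ := (rTensor_injective_iff_lcomp_surjective (f := f)).1 (hf M) φ
  exact ⟨ψ, hψ⟩

theorem pureInj_iff (I : Type u) [AddCommGroup I] [Module R I] :
    PureInj R I ↔ ∃ r : CharacterModule (CharacterModule I) →ₗ[R] I, r ∘ₗ _root_.PureExt.charEval R I = LinearMap.id := by
  refine ⟨fun h => h _ universallyInjective_charEval LinearMap.id, ?_⟩
  rintro ⟨r, hr⟩ K L _ _ _ _ f hf φ
  obtain ⟨ψ, hψ⟩ := pureInj_characterModule (M := CharacterModule I) f hf (_root_.PureExt.charEval R I ∘ₗ φ)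
  exact ⟨r ∘ₗ ψ, by rw [LinearMap.comp_assoc, hψ, ← LinearMap.comp_assoc, hr, LinearMap.id_comp]⟩

theorem exact_rTensor (d : A →ₗ[R] B) (f : B →ₗ[R] C) (h : LinearMap.range d = LinearMap.ker f)
    (hr : CAlgX.UniversallyInjective R (LinearMap.range f).subtype) (T : Type u) [AddCommGroup T] [Module R T] :
    Function.Exact (d.rTensor T) (f.rTensor T) := by
  intro x
  have h0 : f.rTensor T = (LinearMap.range f).subtype.rTensor T ∘ₗ f.rangeRestrict.rTensor T := by
    rw [← LinearMap.rTensor_comp]; rfl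
  have hex : Function.Exact d f.rangeRestrict := by
    rw [LinearMap.exact_iff, LinearMap.ker_rangeRestrict, h]
  rw [h0, LinearMap.comp_apply]
  refine Iff.trans ?_ (rTensor_exact T hex f.surjective_rangeRestrict x)
  exact ⟨fun hx => hr T (hx.trans (map_zero _).symm), fun hx => by rw [hx, map_zero]⟩

theorem universallyInjective_range (f : A →ₗ[R] B) (g : B →ₗ[R] C)
    (h : ∀ (Q : Type u) [AddCommGroup Q] [Module R Q], Function.Exact (f.rTensor Q) (g.rTensor Q)) :
    CAlgX.UniversallyInjective R (LinearMap.range g).subtype := by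
  intro Q _ _
  rw [injective_iff_map_eq_zero]
  intro x hx
  obtain ⟨y, rfl⟩ := LinearMap.rTensor_surjective Q g.surjective_rangeRestrict x
  rw [← LinearMap.rTensor_comp_apply, LinearMap.subtype_comp_codRestrict] at hx
  obtain ⟨z, rfl⟩ := (h Q y).1 hx
  have h0 : g ∘ₗ f = 0 := LinearMap.ext fun l =>
    (TensorProduct.rid R C).symm.injective (by
      simpa using (h R (f l ⊗ₜ (1 : R))).2 ⟨l ⊗ₜ 1, by simp⟩)
  have : g.rangeRestrict ∘ₗ f = 0 := LinearMap.ext fun l => Subtype.ext (LinearMap.congr_fun h0 l)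
  rw [← LinearMap.rTensor_comp_apply, this, LinearMap.rTensor_zero, LinearMap.zero_apply]

theorem exact_of_exact_rTensor (f : A →ₗ[R] B) (g : B →ₗ[R] C)
    (h : ∀ (Q : Type u) [AddCommGroup Q] [Module R Q], Function.Exact (f.rTensor Q) (g.rTensor Q)) :
    Function.Exact f g := by
  intro b
  constructor
  · intro hb
    obtain ⟨z, hz⟩ := (h R (b ⊗ₜ (1 : R))).1 (by simp [hb])
    refine ⟨TensorProduct.rid R A z, ?_⟩
    have hnat : ∀ z : A ⊗[R] R, f (TensorProduct.rid R A z) = TensorProduct.rid R B (f.rTensor R z) := by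
      intro z
      induction z using TensorProduct.induction_on with
      | zero => simp
      | tmul a r => simp
      | add p q hp hq => simp [map_add, hp, hq]
    rw [hnat, hz]
    simp
  · rintro ⟨a, rfl⟩
    have := (h R (f a ⊗ₜ (1 : R))).2 ⟨a ⊗ₜ 1, by simp⟩
    simpa using congrArg (TensorProduct.rid R C) this

theorem surjective_of_surjective_rTensor (f : A →ₗ[R] B) (h : Function.Surjective (f.rTensor R)) :
    Function.Surjective f := fun b => by
  obtain ⟨z, hz⟩ := h (b ⊗ₜ 1)
  refine ⟨TensorProduct.rid R A z, ?_⟩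
  have hnat : ∀ z : A ⊗[R] R, f (TensorProduct.rid R A z) = TensorProduct.rid R B (f.rTensor R z) := by
    intro z
    induction z using TensorProduct.induction_on with
    | zero => simp
    | tmul a r => simp
    | add p q hp hq => simp [map_add, hp, hq]
  rw [hnat, hz]
  simp

/-- Lift through a map whose kernel is universally injective. -/
theorem exists_lift {P : Type u} [AddCommGroup P] [Module R P] (hP : PureProj R P) (d : A →ₗ[R] B)
    (hd : CAlgX.UniversallyInjective R (LinearMap.ker d).subtype) (φ : P →ₗ[R] B)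
    (hφ : ∀ x, φ x ∈ LinearMap.range d) : ∃ ψ : P →ₗ[R] A, d ∘ₗ ψ = φ := by
  obtain ⟨ψ, hψ⟩ := hP d.rangeRestrict d.surjective_rangeRestrict
    (by rw [LinearMap.ker_rangeRestrict]; exact hd) (φ.codRestrict _ hφ)
  exact ⟨ψ, LinearMap.ext fun x => congrArg Subtype.val (LinearMap.congr_fun hψ x)⟩

/-- Extend along a map whose image is universally injective. -/
theorem exists_extend {I : Type u} [AddCommGroup I] [Module R I] (hI : PureInj R I) (f : B →ₗ[R] C)
    (hf : CAlgX.UniversallyInjective R (LinearMap.range f).subtype) (φ : B →ₗ[R] I)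
    (hφ : LinearMap.ker f ≤ LinearMap.ker φ) : ∃ ψ : C →ₗ[R] I, ψ ∘ₗ f = φ := by
  obtain ⟨ψ, hψ⟩ := hI _ hf ((LinearMap.ker f).liftQ φ hφ ∘ₗ f.quotKerEquivRange.symm.toLinearMap)
  refine ⟨ψ, LinearMap.ext fun x => ?_⟩
  have := LinearMap.congr_fun hψ (f.rangeRestrict x)
  simp only [LinearMap.comp_apply, Submodule.subtype_apply, LinearEquiv.coe_coe] at this
  rw [LinearMap.comp_apply]
  refine this.trans ?_
  rw [show f.rangeRestrict x = f.quotKerEquivRange (Submodule.Quotient.mk x) from Subtype.ext rfl,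
    LinearEquiv.symm_apply_apply, Submodule.liftQ_apply]

end Groth.L02.PureExt
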