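import Groth.Agent.L02.PureExt.Basic
import Mathlib.Algebra.Category.ModuleCat.Monoidal.Basic
import Mathlib.CategoryTheory.Monoidal.Preadditive
import Mathlib.Algebra.Homology.QuasiIso
import Mathlib.Algebra.Homology.Homotopy
import Mathlib.Algebra.Homology.SingleHomology
import Mathlib.Algebra.Homology.Additive
import Mathlib.Algebra.Category.ModuleCat.Abelian
import Mathlib.Algebra.Homology.ShortComplex.ModuleCat

/-!
Pure projective and pure injective resolutions.
-/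

set_option autoImplicit false
set_option linter.style.haveILetI false
set_option backward.isDefEq.respectTransparency false
set_option backward.isDefEq.respectTransparency.types false

universe u

open CategoryTheory Limits

noncomputable section

namespace Groth.L02.PureExt

variable {R : Type u} [CommRing R] {M N : ModuleCat.{u} R}

/-- Universal exactness of an augmented chain complex. -/
structure ResDown (P : ChainComplex (ModuleCat.{u} R) ℕ) (ε : P.X 0 →ₗ[R] N) : Prop where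
  surj : Function.Surjective ε
  exact₀ : ∀ (T : Type u) [AddCommGroup T] [Module R T],
    Function.Exact ((P.d 1 0).hom.rTensor T) (ε.rTensor T)
  exact : ∀ (n : ℕ) (T : Type u) [AddCommGroup T] [Module R T],
    Function.Exact ((P.d (n + 2) (n + 1)).hom.rTensor T) ((P.d (n + 1) n).hom.rTensor T)

/-- Universal exactness of a coaugmented cochain complex. -/
structure ResUp (I : CochainComplex (ModuleCat.{u} R) ℕ) (η : M →ₗ[R] I.X 0) : Prop where
  inj : CAlgX.UniversallyInjective R η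
  exact₀ : ∀ (T : Type u) [AddCommGroup T] [Module R T],
    Function.Exact (η.rTensor T) ((I.d 0 1).hom.rTensor T)
  exact : ∀ (n : ℕ) (T : Type u) [AddCommGroup T] [Module R T],
    Function.Exact ((I.d n (n + 1)).hom.rTensor T) ((I.d (n + 1) (n + 2)).hom.rTensor T)

/-- The tensor functor. -/
abbrev tF (T : ModuleCat.{u} R) : ModuleCat.{u} R ⥤ ModuleCat.{u} R := MonoidalCategory.tensorRight T

theorem quasiIso_down_iff (P : ChainComplex (ModuleCat.{u} R) ℕ)
    (π : P ⟶ (ChainComplex.single₀ (ModuleCat.{u} R)).obj N) (T : ModuleCat.{u} R) :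
    QuasiIso (((tF T).mapHomologicalComplex (ComplexShape.down ℕ)).map π) ↔
      (Function.Exact ((P.d 1 0).hom.rTensor T) ((π.f 0).hom.rTensor T) ∧
        Function.Surjective ((π.f 0).hom.rTensor T)) ∧
      ∀ n, Function.Exact ((P.d (n + 2) (n + 1)).hom.rTensor T) ((P.d (n + 1) n).hom.rTensor T) := by
  let FP := ((tF T).mapHomologicalComplex (ComplexShape.down ℕ)).obj P
  let i := (HomologicalComplex.singleMapHomologicalComplex (tF T) (ComplexShape.down ℕ) 0).app N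
  let π' : FP ⟶ (ChainComplex.single₀ (ModuleCat.{u} R)).obj ((tF T).obj N) :=
    ((tF T).mapHomologicalComplex (ComplexShape.down ℕ)).map π ≫ i.hom
  rw [← quasiIso_iff_comp_right _ i.hom]
  change QuasiIso π' ↔ _
  rw [quasiIso_iff]
  have hf : π'.f 0 = (tF T).map (π.f 0) := by
    show (((tF T).mapHomologicalComplex (ComplexShape.down ℕ)).map π ≫ i.hom).f 0 = _
    simp [i, HomologicalComplex.singleObjXSelf, HomologicalComplex.singleObjXIsoOfEq]
    exact Category.comp_id _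
  have h0 : QuasiIsoAt π' 0 ↔ Function.Exact ((P.d 1 0).hom.rTensor T) ((π.f 0).hom.rTensor T) ∧
      Function.Surjective ((π.f 0).hom.rTensor T) := by
    rw [ChainComplex.quasiIsoAt₀_iff, ShortComplex.quasiIso_iff_of_zeros' _ (by simp) rfl rfl,
      ShortComplex.ShortExact.moduleCat_exact_iff_function_exact, ModuleCat.epi_iff_surjective]
    show (Function.Exact ((tF T).map (P.d 1 0)).hom (π'.f 0).hom ∧ Function.Surjective (π'.f 0).hom) ↔ _
    rw [hf]
    rfl
  have hs : ∀ n, QuasiIsoAt π' (n + 1) ↔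
      Function.Exact ((P.d (n + 2) (n + 1)).hom.rTensor T) ((P.d (n + 1) n).hom.rTensor T) := fun n => by
    rw [quasiIsoAt_iff_exactAt' _ _ (ChainComplex.exactAt_succ_single_obj _ _),
      HomologicalComplex.exactAt_iff' _ (n + 2) (n + 1) n (by simp) (by simp),
      ShortComplex.ShortExact.moduleCat_exact_iff_function_exact]
    rfl
  exact ⟨fun h => ⟨h0.1 (h 0), fun n => (hs n).1 (h _)⟩, fun h n => by
    cases n with
    | zero => exact h0.2 h.1
    | succ n => exact (hs n).2 (h.2 n)⟩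

theorem quasiIso_up_iff (I : CochainComplex (ModuleCat.{u} R) ℕ)
    (η : (CochainComplex.single₀ (ModuleCat.{u} R)).obj M ⟶ I) (T : ModuleCat.{u} R) :
    QuasiIso (((tF T).mapHomologicalComplex (ComplexShape.up ℕ)).map η) ↔
      (Function.Exact ((η.f 0).hom.rTensor T) ((I.d 0 1).hom.rTensor T) ∧
        Function.Injective ((η.f 0).hom.rTensor T)) ∧
      ∀ n, Function.Exact ((I.d n (n + 1)).hom.rTensor T) ((I.d (n + 1) (n + 2)).hom.rTensor T) := by
  let i := (HomologicalComplex.singleMapHomologicalComplex (tF T) (ComplexShape.up ℕ) 0).app M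
  let η' : (CochainComplex.single₀ (ModuleCat.{u} R)).obj ((tF T).obj M) ⟶
      ((tF T).mapHomologicalComplex (ComplexShape.up ℕ)).obj I :=
    i.inv ≫ ((tF T).mapHomologicalComplex (ComplexShape.up ℕ)).map η
  rw [← quasiIso_iff_comp_left i.inv]
  change QuasiIso η' ↔ _
  rw [quasiIso_iff]
  have hf : η'.f 0 = (tF T).map (η.f 0) := by
    show (i.inv ≫ ((tF T).mapHomologicalComplex (ComplexShape.up ℕ)).map η).f 0 = _
    simp [i, HomologicalComplex.singleObjXSelf, HomologicalComplex.singleObjXIsoOfEq]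
  have h0 : QuasiIsoAt η' 0 ↔ Function.Exact ((η.f 0).hom.rTensor T) ((I.d 0 1).hom.rTensor T) ∧
      Function.Injective ((η.f 0).hom.rTensor T) := by
    rw [CochainComplex.quasiIsoAt₀_iff, ShortComplex.quasiIso_iff_of_zeros _ rfl rfl (by simp),
      ShortComplex.ShortExact.moduleCat_exact_iff_function_exact, ModuleCat.mono_iff_injective]
    show (Function.Exact (η'.f 0).hom ((tF T).map (I.d 0 1)).hom ∧ Function.Injective (η'.f 0).hom) ↔ _
    rw [hf]
    rfl
  have hs : ∀ n, QuasiIsoAt η' (n + 1) ↔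
      Function.Exact ((I.d n (n + 1)).hom.rTensor T) ((I.d (n + 1) (n + 2)).hom.rTensor T) := fun n => by
    rw [quasiIsoAt_iff_exactAt _ _ (CochainComplex.exactAt_succ_single_obj _ _),
      HomologicalComplex.exactAt_iff' _ n (n + 1) (n + 2) (by simp) (by simp),
      ShortComplex.ShortExact.moduleCat_exact_iff_function_exact]
    rfl
  exact ⟨fun h => ⟨h0.1 (h 0), fun n => (hs n).1 (h _)⟩, fun h n => by
    cases n with
    | zero => exact h0.2 h.1
    | succ n => exact (hs n).2 (h.2 n)⟩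

theorem quasiIso_down_all_iff (P : ChainComplex (ModuleCat.{u} R) ℕ)
    (π : P ⟶ (ChainComplex.single₀ (ModuleCat.{u} R)).obj N) :
    (∀ T : ModuleCat.{u} R, QuasiIso (((tF T).mapHomologicalComplex (ComplexShape.down ℕ)).map π)) ↔
      ResDown (N := N) P (π.f 0).hom := by
  refine ⟨fun h => ⟨?_, ?_, ?_⟩, fun h T => ?_⟩
  · exact surjective_of_surjective_rTensor _ ((quasiIso_down_iff P π (ModuleCat.of R R)).1 (h _)).1.2
  · intro T _ _
    exact ((quasiIso_down_iff P π (ModuleCat.of R T)).1 (h _)).1.1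
  · intro n T _ _
    exact ((quasiIso_down_iff P π (ModuleCat.of R T)).1 (h _)).2 n
  · exact (quasiIso_down_iff P π T).2 ⟨⟨h.exact₀ T, LinearMap.rTensor_surjective _ h.surj⟩, fun n => h.exact n T⟩

theorem quasiIso_up_all_iff (I : CochainComplex (ModuleCat.{u} R) ℕ)
    (η : (CochainComplex.single₀ (ModuleCat.{u} R)).obj M ⟶ I) :
    (∀ T : ModuleCat.{u} R, QuasiIso (((tF T).mapHomologicalComplex (ComplexShape.up ℕ)).map η)) ↔
      ResUp (M := M) I (η.f 0).hom := by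
  refine ⟨fun h => ⟨?_, ?_, ?_⟩, fun h T => ?_⟩
  · intro T _ _
    exact ((quasiIso_up_iff I η (ModuleCat.of R T)).1 (h _)).1.2
  · intro T _ _
    exact ((quasiIso_up_iff I η (ModuleCat.of R T)).1 (h _)).1.1
  · intro n T _ _
    exact ((quasiIso_up_iff I η (ModuleCat.of R T)).1 (h _)).2 n
  · exact (quasiIso_up_iff I η T).2 ⟨⟨h.exact₀ T, h.inj T⟩, fun n => h.exact n T⟩

section Down

variable {P : ChainComplex (ModuleCat.{u} R) ℕ} {ε : P.X 0 →ₗ[R] N}

theorem ResDown.range_eq (h : ResDown P ε) (n : ℕ) :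
    LinearMap.range (P.d (n + 2) (n + 1)).hom = LinearMap.ker (P.d (n + 1) n).hom :=
  (LinearMap.exact_iff.1 (exact_of_exact_rTensor _ _ (h.exact n))).symm

theorem ResDown.range_eq₀ (h : ResDown P ε) : LinearMap.range (P.d 1 0).hom = LinearMap.ker ε :=
  (LinearMap.exact_iff.1 (exact_of_exact_rTensor _ _ h.exact₀)).symm

theorem ResDown.ker_pure₀ (h : ResDown P ε) : CAlgX.UniversallyInjective R (LinearMap.ker ε).subtype := by
  rw [← h.range_eq₀]
  exact universallyInjective_range _ _ (h.exact 0)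

theorem ResDown.ker_pure (h : ResDown P ε) (n : ℕ) :
    CAlgX.UniversallyInjective R (LinearMap.ker (P.d (n + 1) n).hom).subtype := by
  rw [← h.range_eq n]
  exact universallyInjective_range _ _ (h.exact (n + 1))

/-- Lift along an augmentation or differential, as morphisms. -/
theorem exists_lift_hom {A B X : ModuleCat.{u} R} (hX : PureProj R X) (d : A ⟶ B)
    (hd : CAlgX.UniversallyInjective R (LinearMap.ker d.hom).subtype) (φ : X ⟶ B)
    (hφ : ∀ x, φ.hom x ∈ LinearMap.range d.hom) : ∃ ψ : X ⟶ A, ψ ≫ d = φ := by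
  obtain ⟨ψ, hψ⟩ := exists_lift hX d.hom hd φ.hom hφ
  exact ⟨ModuleCat.ofHom ψ, ModuleCat.hom_ext hψ⟩

theorem exists_chainMap (f : M ⟶ N) (P N' : ChainComplex (ModuleCat.{u} R) ℕ)
    (π : P ⟶ (ChainComplex.single₀ (ModuleCat.{u} R)).obj M)
    (ε : N' ⟶ (ChainComplex.single₀ (ModuleCat.{u} R)).obj N)
    (hP : ∀ n, PureProj R (P.X n)) (hN' : ResDown (N := N) N' (ε.f 0).hom) :
    ∃ φ : P ⟶ N', φ ≫ ε = π ≫ (ChainComplex.single₀ (ModuleCat.{u} R)).map f := by
  let πf : P.X 0 ⟶ N := π.f 0 ≫ f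
  let εf : N'.X 0 ⟶ N := ε.f 0
  obtain ⟨zero, hzero⟩ := exists_lift_hom (hP 0) εf hN'.ker_pure₀ πf
    (fun x => hN'.surj (πf.hom x))
  have hd : P.d 1 0 ≫ π.f 0 = 0 := by rw [← π.comm 1 0, HomologicalComplex.single_obj_d, comp_zero]
  have hone : (P.d 1 0 ≫ zero) ≫ εf = 0 := by
    rw [Category.assoc, hzero]
    show P.d 1 0 ≫ π.f 0 ≫ f = 0
    rw [reassoc_of% hd, zero_comp]
  obtain ⟨one, hone'⟩ := exists_lift_hom (hP 1) (N'.d 1 0) (hN'.ker_pure 0) (P.d 1 0 ≫ zero) (fun x => by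
    rw [hN'.range_eq₀]
    exact LinearMap.congr_fun (congrArg ModuleCat.Hom.hom hone) x)
  have hsucc : ∀ (n : ℕ) (a : P.X n ⟶ N'.X n) (b : P.X (n + 1) ⟶ N'.X (n + 1)),
      b ≫ N'.d (n + 1) n = P.d (n + 1) n ≫ a →
      ∃ c : P.X (n + 2) ⟶ N'.X (n + 2), c ≫ N'.d (n + 2) (n + 1) = P.d (n + 2) (n + 1) ≫ b := by
    intro n a b hab
    refine exists_lift_hom (hP (n + 2)) _ (hN'.ker_pure (n + 1)) _ fun x => ?_
    rw [hN'.range_eq n]
    have h0 : (P.d (n + 2) (n + 1) ≫ b) ≫ N'.d (n + 1) n = 0 := by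
      rw [Category.assoc, hab, HomologicalComplex.d_comp_d_assoc, zero_comp]
    exact LinearMap.congr_fun (congrArg ModuleCat.Hom.hom h0) x
  choose c hc using hsucc
  refine ⟨ChainComplex.mkHom P N' zero one hone' (fun n p => ⟨c n p.1 p.2.1 p.2.2, hc n p.1 p.2.1 p.2.2⟩), ?_⟩
  refine HomologicalComplex.to_single_hom_ext ?_
  rw [HomologicalComplex.comp_f, HomologicalComplex.comp_f, ChainComplex.mkHom_f_0,
    ChainComplex.single₀_map_f_zero]
  exact hzero

theorem exists_homotopy (f : M ⟶ N) (P N' : ChainComplex (ModuleCat.{u} R) ℕ)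
    (π : P ⟶ (ChainComplex.single₀ (ModuleCat.{u} R)).obj M)
    (ε : N' ⟶ (ChainComplex.single₀ (ModuleCat.{u} R)).obj N)
    (hP : ∀ n, PureProj R (P.X n)) (hN' : ResDown (N := N) N' (ε.f 0).hom)
    (α β : P ⟶ N') (hα : α ≫ ε = π ≫ (ChainComplex.single₀ (ModuleCat.{u} R)).map f)
    (hβ : β ≫ ε = π ≫ (ChainComplex.single₀ (ModuleCat.{u} R)).map f) : Nonempty (Homotopy α β) := by
  refine ⟨Homotopy.equivSubZero.symm (Nonempty.some ?_)⟩
  let e := α - β
  have he : e.f 0 ≫ ε.f 0 = 0 := by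
    rw [← HomologicalComplex.comp_f, Preadditive.sub_comp, hα, hβ, sub_self]; rfl
  obtain ⟨zero, hzero⟩ := exists_lift_hom (hP 0) (N'.d 1 0) (hN'.ker_pure 0) (e.f 0) (fun x => by
    rw [hN'.range_eq₀]
    exact LinearMap.congr_fun (congrArg ModuleCat.Hom.hom he) x)
  obtain ⟨one, hone⟩ := exists_lift_hom (hP 1) (N'.d 2 1) (hN'.ker_pure 1) (e.f 1 - P.d 1 0 ≫ zero) (fun x => by
    rw [hN'.range_eq 0]
    have h0 : (e.f 1 - P.d 1 0 ≫ zero) ≫ N'.d 1 0 = 0 := by
      rw [Preadditive.sub_comp, Category.assoc, hzero, e.comm 1 0, sub_self]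
    exact LinearMap.congr_fun (congrArg ModuleCat.Hom.hom h0) x)
  have hsucc : ∀ (n : ℕ) (a : P.X n ⟶ N'.X (n + 1)) (b : P.X (n + 1) ⟶ N'.X (n + 2)),
      e.f (n + 1) = P.d (n + 1) n ≫ a + b ≫ N'.d (n + 2) (n + 1) →
      ∃ c : P.X (n + 2) ⟶ N'.X (n + 3),
        e.f (n + 2) = P.d (n + 2) (n + 1) ≫ b + c ≫ N'.d (n + 3) (n + 2) := by
    intro n a b hab
    obtain ⟨c, hc⟩ := exists_lift_hom (hP (n + 2)) (N'.d (n + 3) (n + 2)) (hN'.ker_pure (n + 2))
      (e.f (n + 2) - P.d (n + 2) (n + 1) ≫ b) (fun x => by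
        rw [hN'.range_eq (n + 1)]
        have h0 : (e.f (n + 2) - P.d (n + 2) (n + 1) ≫ b) ≫ N'.d (n + 2) (n + 1) = 0 := by
          rw [Preadditive.sub_comp, e.comm (n + 2) (n + 1), hab, Preadditive.comp_add,
            HomologicalComplex.d_comp_d_assoc, zero_comp, zero_add, Category.assoc, sub_self]
        exact LinearMap.congr_fun (congrArg ModuleCat.Hom.hom h0) x)
    exact ⟨c, by rw [hc]; abel⟩
  choose c hc using hsucc
  exact ⟨Homotopy.mkInductive e zero hzero.symm one (by rw [hone]; abel)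
    (fun n p => ⟨c n p.1 p.2.1 p.2.2, hc n p.1 p.2.1 p.2.2⟩)⟩

end Down

section Up

variable {I : CochainComplex (ModuleCat.{u} R) ℕ} {η : M →ₗ[R] I.X 0}

theorem ResUp.range_eq₀ (h : ResUp I η) : LinearMap.range η = LinearMap.ker (I.d 0 1).hom :=
  (LinearMap.exact_iff.1 (exact_of_exact_rTensor _ _ h.exact₀)).symm

theorem ResUp.range_eq (h : ResUp I η) (n : ℕ) :
    LinearMap.range (I.d n (n + 1)).hom = LinearMap.ker (I.d (n + 1) (n + 2)).hom :=
  (LinearMap.exact_iff.1 (exact_of_exact_rTensor _ _ (h.exact n))).symm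

theorem ResUp.range_pure (h : ResUp I η) : ∀ n,
    CAlgX.UniversallyInjective R (LinearMap.range (I.d n (n + 1)).hom).subtype
  | 0 => universallyInjective_range _ _ h.exact₀
  | n + 1 => universallyInjective_range _ _ (h.exact n)

/-- Extend along a map with pure image, as morphisms. -/
theorem exists_extend_hom {A B X : ModuleCat.{u} R} (hX : PureInj R X) (d : A ⟶ B)
    (hd : CAlgX.UniversallyInjective R (LinearMap.range d.hom).subtype) (φ : A ⟶ X)
    (hφ : LinearMap.ker d.hom ≤ LinearMap.ker φ.hom) : ∃ ψ : B ⟶ X, d ≫ ψ = φ := by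
  obtain ⟨ψ, hψ⟩ := exists_extend hX d.hom hd φ.hom hφ
  exact ⟨ModuleCat.ofHom ψ, ModuleCat.hom_ext hψ⟩

theorem exists_cochainMap (f : M ⟶ N) (M' I : CochainComplex (ModuleCat.{u} R) ℕ)
    (η : (CochainComplex.single₀ (ModuleCat.{u} R)).obj M ⟶ M')
    (ε : (CochainComplex.single₀ (ModuleCat.{u} R)).obj N ⟶ I)
    (hI : ∀ n, PureInj R (I.X n)) (hM' : ResUp (M := M) M' (η.f 0).hom) :
    ∃ φ : M' ⟶ I, η ≫ φ = (CochainComplex.single₀ (ModuleCat.{u} R)).map f ≫ ε := by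
  let ηf : M ⟶ M'.X 0 := η.f 0
  let εf : M ⟶ I.X 0 := f ≫ ε.f 0
  obtain ⟨ψ₀, hψ₀⟩ := hI 0 ηf.hom hM'.inj εf.hom
  let zero : M'.X 0 ⟶ I.X 0 := ModuleCat.ofHom ψ₀
  have hzero : ηf ≫ zero = εf := ModuleCat.hom_ext hψ₀
  have hd : ε.f 0 ≫ I.d 0 1 = 0 := by rw [ε.comm 0 1, HomologicalComplex.single_obj_d, zero_comp]
  have hone : ηf ≫ zero ≫ I.d 0 1 = 0 := by
    rw [reassoc_of% hzero]
    show (f ≫ ε.f 0) ≫ I.d 0 1 = 0
    rw [Category.assoc, hd, comp_zero]
  obtain ⟨one, hone'⟩ := exists_extend_hom (hI 1) (M'.d 0 1) (hM'.range_pure 0) (zero ≫ I.d 0 1) (by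
    rw [← hM'.range_eq₀]
    rintro _ ⟨x, rfl⟩
    exact LinearMap.congr_fun (congrArg ModuleCat.Hom.hom hone) x)
  have hsucc : ∀ (n : ℕ) (a : M'.X n ⟶ I.X n) (b : M'.X (n + 1) ⟶ I.X (n + 1)),
      a ≫ I.d n (n + 1) = M'.d n (n + 1) ≫ b →
      ∃ c : M'.X (n + 2) ⟶ I.X (n + 2), b ≫ I.d (n + 1) (n + 2) = M'.d (n + 1) (n + 2) ≫ c := by
    intro n a b hab
    obtain ⟨c, hc⟩ := exists_extend_hom (hI (n + 2)) (M'.d (n + 1) (n + 2)) (hM'.range_pure (n + 1))
      (b ≫ I.d (n + 1) (n + 2)) (by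
        rw [← hM'.range_eq n]
        rintro _ ⟨x, rfl⟩
        have h0 : M'.d n (n + 1) ≫ b ≫ I.d (n + 1) (n + 2) = 0 := by
          rw [← reassoc_of% hab, HomologicalComplex.d_comp_d, comp_zero]
        exact LinearMap.congr_fun (congrArg ModuleCat.Hom.hom h0) x)
    exact ⟨c, hc.symm⟩
  choose c hc using hsucc
  refine ⟨CochainComplex.mkHom M' I zero one hone'.symm (fun n p => ⟨c n p.1 p.2.1 p.2.2, hc n p.1 p.2.1 p.2.2⟩), ?_⟩
  refine HomologicalComplex.from_single_hom_ext ?_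
  rw [HomologicalComplex.comp_f, HomologicalComplex.comp_f, CochainComplex.mkHom_f_0,
    CochainComplex.single₀_map_f_zero]
  exact hzero

theorem exists_homotopy_up (f : M ⟶ N) (M' I : CochainComplex (ModuleCat.{u} R) ℕ)
    (η : (CochainComplex.single₀ (ModuleCat.{u} R)).obj M ⟶ M')
    (ε : (CochainComplex.single₀ (ModuleCat.{u} R)).obj N ⟶ I)
    (hI : ∀ n, PureInj R (I.X n)) (hM' : ResUp (M := M) M' (η.f 0).hom)
    (α β : M' ⟶ I) (hα : η ≫ α = (CochainComplex.single₀ (ModuleCat.{u} R)).map f ≫ ε)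
    (hβ : η ≫ β = (CochainComplex.single₀ (ModuleCat.{u} R)).map f ≫ ε) : Nonempty (Homotopy α β) := by
  refine ⟨Homotopy.equivSubZero.symm (Nonempty.some ?_)⟩
  let e := α - β
  have he : η.f 0 ≫ e.f 0 = 0 := by
    rw [← HomologicalComplex.comp_f, Preadditive.comp_sub, hα, hβ, sub_self]; rfl
  obtain ⟨zero, hzero⟩ := exists_extend_hom (hI 0) (M'.d 0 1) (hM'.range_pure 0) (e.f 0) (by
    rw [← hM'.range_eq₀]
    rintro _ ⟨x, rfl⟩
    exact LinearMap.congr_fun (congrArg ModuleCat.Hom.hom he) x)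
  obtain ⟨one, hone⟩ := exists_extend_hom (hI 1) (M'.d 1 2) (hM'.range_pure 1) (e.f 1 - zero ≫ I.d 0 1) (by
    rw [← hM'.range_eq 0]
    rintro _ ⟨x, rfl⟩
    have h0 : M'.d 0 1 ≫ (e.f 1 - zero ≫ I.d 0 1) = 0 := by
      rw [Preadditive.comp_sub, reassoc_of% hzero, ← e.comm 0 1, sub_self]
    exact LinearMap.congr_fun (congrArg ModuleCat.Hom.hom h0) x)
  have hsucc : ∀ (n : ℕ) (a : M'.X (n + 1) ⟶ I.X n) (b : M'.X (n + 2) ⟶ I.X (n + 1)),
      e.f (n + 1) = a ≫ I.d n (n + 1) + M'.d (n + 1) (n + 2) ≫ b →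
      ∃ c : M'.X (n + 3) ⟶ I.X (n + 2),
        e.f (n + 2) = b ≫ I.d (n + 1) (n + 2) + M'.d (n + 2) (n + 3) ≫ c := by
    intro n a b hab
    obtain ⟨c, hc⟩ := exists_extend_hom (hI (n + 2)) (M'.d (n + 2) (n + 3)) (hM'.range_pure (n + 2))
      (e.f (n + 2) - b ≫ I.d (n + 1) (n + 2)) (by
        rw [← hM'.range_eq (n + 1)]
        rintro _ ⟨x, rfl⟩
        have h0 : M'.d (n + 1) (n + 2) ≫ (e.f (n + 2) - b ≫ I.d (n + 1) (n + 2)) = 0 := by
          rw [Preadditive.comp_sub, ← e.comm (n + 1) (n + 2), hab, Preadditive.add_comp, Category.assoc,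
            HomologicalComplex.d_comp_d, comp_zero, zero_add, Category.assoc, sub_self]
        exact LinearMap.congr_fun (congrArg ModuleCat.Hom.hom h0) x)
    exact ⟨c, by rw [hc]; abel⟩
  choose c hc using hsucc
  exact ⟨Homotopy.mkCoinductive e zero hzero.symm one (by rw [hone]; abel)
    (fun n p => ⟨c n p.1 p.2.1 p.2.2, hc n p.1 p.2.1 p.2.2⟩)⟩

end Up

end Groth.L02.PureExt
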