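import Groth.Agent.L02.PureExt.Complex

/-!
Existence of pure projective and pure injective resolutions.
-/

set_option autoImplicit false
set_option linter.style.haveILetI false
set_option backward.isDefEq.respectTransparency false
set_option backward.isDefEq.respectTransparency.types false

universe u

open CategoryTheory Limits

noncomputable section

namespace Groth.L02.PureExt

variable {R : Type u} [CommRing R]

theorem exists_cover_cat (M : ModuleCat.{u} R) :
    ∃ (X : ModuleCat.{u} R) (g : X ⟶ M), PureProj R X ∧ Function.Surjective g.hom ∧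
      CAlgX.UniversallyInjective R (LinearMap.ker g.hom).subtype := by
  obtain ⟨ι, Q, i1, i2, hQ, g, hg, hK⟩ := exists_cover (R := R) M
  exact ⟨ModuleCat.of R (Π₀ i, Q i), ModuleCat.ofHom g, pureProj_dfinsupp Q, hg, hK⟩

/-- The object of the chosen cover. -/
def covObj (M : ModuleCat.{u} R) : ModuleCat.{u} R := (exists_cover_cat M).choose

/-- The chosen cover. -/
def covHom (M : ModuleCat.{u} R) : covObj M ⟶ M := (exists_cover_cat M).choose_spec.choose

theorem covHom_spec (M : ModuleCat.{u} R) : PureProj R (covObj M) ∧ Function.Surjective (covHom M).hom ∧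
    CAlgX.UniversallyInjective R (LinearMap.ker (covHom M).hom).subtype :=
  (exists_cover_cat M).choose_spec.choose_spec

/-- The object of kernels. -/
abbrev kerObj {X Y : ModuleCat.{u} R} (f : X ⟶ Y) : ModuleCat.{u} R := ModuleCat.of R (LinearMap.ker f.hom)

/-- The next differential. -/
def nextD {X Y : ModuleCat.{u} R} (f : X ⟶ Y) : covObj (kerObj f) ⟶ X :=
  covHom (kerObj f) ≫ ModuleCat.ofHom (LinearMap.ker f.hom).subtype

theorem nextD_comp {X Y : ModuleCat.{u} R} (f : X ⟶ Y) : nextD f ≫ f = 0 :=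
  ModuleCat.hom_ext (LinearMap.ext fun x => ((covHom (kerObj f)).hom x).2)

theorem range_nextD {X Y : ModuleCat.{u} R} (f : X ⟶ Y) :
    LinearMap.range (nextD f).hom = LinearMap.ker f.hom := by
  ext x
  constructor
  · rintro ⟨y, rfl⟩; exact ((covHom (kerObj f)).hom y).2
  · intro hx
    obtain ⟨y, hy⟩ := (covHom_spec (kerObj f)).2.1 ⟨x, hx⟩
    exact ⟨y, congrArg Subtype.val hy⟩

theorem ker_nextD {X Y : ModuleCat.{u} R} (f : X ⟶ Y) :
    LinearMap.ker (nextD f).hom = LinearMap.ker (covHom (kerObj f)).hom := by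
  ext x
  exact Subtype.coe_injective.eq_iff' rfl

/-- A stage of the construction. -/
structure Stage (R : Type u) [CommRing R] where
  src : ModuleCat.{u} R
  tgt : ModuleCat.{u} R
  hom : src ⟶ tgt

variable (M : ModuleCat.{u} R)

/-- The stages of the projective resolution. -/
def stD : ℕ → Stage R
  | 0 => ⟨covObj M, M, covHom M⟩
  | n + 1 => ⟨covObj (kerObj (stD n).hom), (stD n).src, nextD (stD n).hom⟩

theorem stD_props : ∀ n : ℕ, PureProj R (stD M n).src ∧
    CAlgX.UniversallyInjective R (LinearMap.ker (stD M n).hom.hom).subtype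
  | 0 => ⟨(covHom_spec M).1, (covHom_spec M).2.2⟩
  | n + 1 => ⟨(covHom_spec _).1, by
      show CAlgX.UniversallyInjective R (LinearMap.ker (nextD (stD M n).hom).hom).subtype
      rw [ker_nextD]
      exact (covHom_spec _).2.2⟩

/-- The chosen resolution. -/
def resC : ChainComplex (ModuleCat.{u} R) ℕ :=
  ChainComplex.of (fun n => (stD M n).src) (fun n => nextD (stD M n).hom)
    (fun n => nextD_comp (nextD (stD M n).hom))

theorem resC_d (n : ℕ) : (resC M).d (n + 1) n = nextD (stD M n).hom :=
  ChainComplex.of_d (fun n => (stD M n).src) (fun n => nextD (stD M n).hom) n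

theorem exists_resolution :
    ∃ (P : ChainComplex (ModuleCat.{u} R) ℕ) (π : P ⟶ (ChainComplex.single₀ (ModuleCat.{u} R)).obj M),
      (∀ n, PureProj R (P.X n)) ∧ ResDown (N := M) P (π.f 0).hom := by
  have h0 : (resC M).d 1 0 ≫ covHom M = 0 := by
    rw [resC_d]; exact nextD_comp _
  refine ⟨resC M, (ChainComplex.toSingle₀Equiv (resC M) M).symm ⟨covHom M, h0⟩, fun n => (stD_props M n).1, ?_⟩
  rw [ChainComplex.toSingle₀Equiv_symm_apply_f_zero]
  refine ⟨(covHom_spec M).2.1, fun T _ _ => exact_rTensor _ _ ?_ ?_ T, fun n T _ _ => exact_rTensor _ _ ?_ ?_ T⟩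
  · rw [resC_d]; exact range_nextD _
  · rw [LinearMap.range_eq_top.2 (covHom_spec M).2.1]
    intro Q _ _
    exact (LinearEquiv.rTensor Q (LinearEquiv.ofTop (⊤ : Submodule R M) rfl)).injective
  · rw [resC_d, resC_d]; exact range_nextD _
  · rw [resC_d, range_nextD]
    exact (stD_props M n).2

/-- The double character module. -/
abbrev dd (X : Type u) [AddCommGroup X] [Module R X] : ModuleCat.{u} R :=
  ModuleCat.of R (CharacterModule (CharacterModule X))

/-- The next differential of the injective resolution. -/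
def nextI {X Y : ModuleCat.{u} R} (f : X ⟶ Y) : Y ⟶ dd (R := R) (Y ⧸ LinearMap.range f.hom) :=
  ModuleCat.ofHom (_root_.PureExt.charEval R (Y ⧸ LinearMap.range f.hom) ∘ₗ (LinearMap.range f.hom).mkQ)

theorem comp_nextI {X Y : ModuleCat.{u} R} (f : X ⟶ Y) : f ≫ nextI f = 0 := by
  refine ModuleCat.hom_ext (LinearMap.ext fun x => ?_)
  show _root_.PureExt.charEval R _ ((LinearMap.range f.hom).mkQ (f.hom x)) = 0
  rw [Submodule.mkQ_apply, (Submodule.Quotient.mk_eq_zero _).2 (LinearMap.mem_range_self _ x), map_zero]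

theorem exact_nextI {X Y : ModuleCat.{u} R} (f : X ⟶ Y) (T : Type u) [AddCommGroup T] [Module R T] :
    Function.Exact (f.hom.rTensor T) ((nextI f).hom.rTensor T) := by
  intro x
  show (_root_.PureExt.charEval R (Y ⧸ LinearMap.range f.hom) ∘ₗ (LinearMap.range f.hom).mkQ).rTensor T x = 0 ↔ _
  rw [LinearMap.rTensor_comp, LinearMap.comp_apply]
  refine Iff.trans ?_ (rTensor_exact T (LinearMap.exact_map_mkQ_range f.hom) (Submodule.mkQ_surjective _) x)
  exact ⟨fun h => universallyInjective_charEval T (h.trans (map_zero _).symm), fun h => by rw [h, map_zero]⟩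

/-- The stages of the injective resolution. -/
def stI : ℕ → Stage R
  | 0 => ⟨M, dd (R := R) M, ModuleCat.ofHom (_root_.PureExt.charEval R M)⟩
  | n + 1 => ⟨(stI n).tgt, _, nextI (stI n).hom⟩

theorem stI_pureInj : ∀ n : ℕ, PureInj R (stI M n).tgt
  | 0 => pureInj_characterModule
  | _ + 1 => pureInj_characterModule

/-- The chosen pure injective resolution. -/
def resI : CochainComplex (ModuleCat.{u} R) ℕ :=
  CochainComplex.of (fun n => (stI M n).tgt) (fun n => nextI (stI M n).hom)
    (fun n => comp_nextI (nextI (stI M n).hom))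

theorem resI_d (n : ℕ) : (resI M).d n (n + 1) = nextI (stI M n).hom :=
  CochainComplex.of_d (fun n => (stI M n).tgt) (fun n => nextI (stI M n).hom) n

theorem exists_resolution_up :
    ∃ (I : CochainComplex (ModuleCat.{u} R) ℕ) (η : (CochainComplex.single₀ (ModuleCat.{u} R)).obj M ⟶ I),
      (∀ n, PureInj R (I.X n)) ∧ ResUp (M := M) I (η.f 0).hom := by
  have h0 : (stI M 0).hom ≫ (resI M).d 0 1 = 0 := by rw [resI_d]; exact comp_nextI _
  refine ⟨resI M, (CochainComplex.fromSingle₀Equiv (resI M) M).symm ⟨(stI M 0).hom, h0⟩, stI_pureInj M, ?_⟩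
  rw [CochainComplex.fromSingle₀Equiv_symm_apply_f_zero]
  refine ⟨universallyInjective_charEval, fun T _ _ => ?_, fun n T _ _ => ?_⟩
  · rw [resI_d]; exact exact_nextI _ T
  · rw [resI_d, resI_d]; exact exact_nextI _ T

end Groth.L02.PureExt
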